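import Mathlib

/-!
Lower bounds for the dimension of the centralizer of an endomorphism in terms of one eigenspace
(helper62).
-/

set_option autoImplicit false

namespace CfsgLib.ExtraEigen

variable {K V : Type*} [Field K] [AddCommGroup V] [Module K V]

/-- The endomorphisms commuting with `T`. -/
def cent (T : Module.End K V) : Submodule K (Module.End K V) where
  carrier := {M | T * M = M * T}
  add_mem' := fun {a b} ha hb => by
    show T * (a + b) = (a + b) * T
    rw [mul_add, add_mul]; exact congrArg₂ (· + ·) ha hb
  zero_mem' := by show T * 0 = 0 * T; rw [mul_zero, zero_mul]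
  smul_mem' := fun k a ha => by
    show T * (k • a) = (k • a) * T
    rw [mul_smul_comm, smul_mul_assoc]; exact congrArg (k • ·) ha

theorem mem_cent {T M : Module.End K V} : M ∈ cent T ↔ T * M = M * T := Iff.rfl

theorem cent_smul_one (c : K) : cent (c • (1 : Module.End K V)) = ⊤ := by
  rw [eq_top_iff]
  intro M _
  rw [mem_cent, smul_mul_assoc, one_mul, mul_smul_comm, mul_one]

theorem cent_sub_smul (T : Module.End K V) (c : K) : cent (T - c • 1) = cent T := by
  ext M
  simp only [mem_cent, sub_mul, mul_sub, smul_mul_assoc, one_mul, mul_smul_comm, mul_one, sub_left_inj]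

variable [FiniteDimensional K V]

/-- The restriction of `T` to the range of `T - c`. -/
def onRange (T : Module.End K V) (c : K) : Module.End K (LinearMap.range (T - c • 1)) :=
  LinearMap.restrict T (p := LinearMap.range (T - c • 1)) (q := LinearMap.range (T - c • 1)) fun v hv => by
    obtain ⟨w, rfl⟩ := hv
    exact ⟨T w, by simp⟩

omit [FiniteDimensional K V] in
theorem coe_onRange (T : Module.End K V) (c : K) (v : LinearMap.range (T - c • 1)) :
    (onRange T c v : V) = T v := rfl

/-- `dim C(T) ≥ d² + dim C(T | (T-c)V)` for `d` the dimension of the `c`-eigenspace. -/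
theorem finrank_cent_ge (T : Module.End K V) (c : K) :
    Module.finrank K (LinearMap.ker (T - c • 1)) ^ 2 + Module.finrank K (cent (onRange T c)) ≤
      Module.finrank K (cent T) := by
  set N := T - c • (1 : Module.End K V) with hN
  set M := LinearMap.range N with hM
  obtain ⟨s, hs⟩ := N.rangeRestrict.exists_rightInverse_of_surjective N.range_rangeRestrict
  obtain ⟨π, hπ⟩ := M.subtype.exists_leftInverse_of_injective M.ker_subtype
  have hsN : ∀ m : M, N (s m) = m := fun m => congrArg Subtype.val (LinearMap.congr_fun hs m)
  have hπM : ∀ m : M, π (m : V) = m := fun m => LinearMap.congr_fun hπ m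
  have hNmem : ∀ v, N v ∈ M := fun v => LinearMap.mem_range_self N v
  -- restriction to the range
  let res : cent T →ₗ[K] cent (onRange T c) :=
    { toFun := fun f => ⟨LinearMap.restrict (f : Module.End K V) (p := M) (q := M) (fun v hv => by
        obtain ⟨w, rfl⟩ := hv
        have hf := LinearMap.congr_fun (mem_cent.mp ((cent_sub_smul T c).symm ▸ f.2 : (f : Module.End K V) ∈ cent N)) w
        exact ⟨(f : Module.End K V) w, hf⟩), by
          rw [mem_cent]
          ext v
          exact LinearMap.congr_fun (mem_cent.mp f.2) (v : V)⟩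
      map_add' := fun f g => by ext; rfl
      map_smul' := fun k f => by ext; rfl }
  have hsurj : Function.Surjective res := by
    rintro ⟨f₀, hf₀⟩
    let f : Module.End K V := M.subtype ∘ₗ f₀ ∘ₗ π +
      s ∘ₗ f₀ ∘ₗ N.rangeRestrict ∘ₗ (LinearMap.id - M.subtype ∘ₗ π)
    have hfm : ∀ m : M, f (m : V) = f₀ m := by
      intro m
      show ((f₀ (π (m : V)) : M) : V) + s (f₀ (N.rangeRestrict ((m : V) - (π (m : V) : V)))) = _
      rw [hπM, sub_self, map_zero, map_zero, map_zero, add_zero]
    have hN₀ : ∀ m : M, N (f₀ m : V) = (f₀ ⟨N m, hNmem m⟩ : V) := by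
      intro m
      have h1 := congrArg Subtype.val (LinearMap.congr_fun hf₀ m)
      simp only [Module.End.mul_apply, coe_onRange] at h1
      have h2 : (⟨N m, hNmem m⟩ : M) = onRange T c m - c • m := by
        apply Subtype.ext
        simp [hN, coe_onRange]
      rw [h2, map_sub, map_smul]
      simp [hN, h1]
    have hf : f ∈ cent T := by
      rw [← cent_sub_smul T c, mem_cent]
      ext v
      show N (f v) = f (N v)
      rw [show N v = ((⟨N v, hNmem v⟩ : M) : V) from rfl, hfm]
      set w : V := v - (π v : V) with hw
      have hv : v = (π v : V) + w := by rw [hw]; abel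
      show N ((f₀ (π v) : V) + s (f₀ (N.rangeRestrict (v - (π v : V))))) = _
      rw [map_add, hN₀, hsN, ← hw]
      have h3 : (⟨N v, hNmem v⟩ : M) = ⟨N (π v : V), hNmem _⟩ + N.rangeRestrict w := by
        apply Subtype.ext
        show N v = N (π v : V) + N w
        rw [← map_add, ← hv]
      rw [h3, map_add]
      rfl
    exact ⟨⟨f, hf⟩, Subtype.ext (LinearMap.ext fun m => Subtype.ext (hfm m))⟩
  -- maps from the cokernel into the kernel
  let ι : ((V ⧸ M) →ₗ[K] LinearMap.ker N) →ₗ[K] LinearMap.ker res :=
    { toFun := fun h => ⟨⟨(LinearMap.ker N).subtype ∘ₗ h ∘ₗ M.mkQ, by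
        rw [← cent_sub_smul T c, mem_cent]
        ext v
        show N (h (M.mkQ v) : V) = (h (M.mkQ (N v)) : V)
        rw [show M.mkQ (N v) = 0 from (Submodule.Quotient.mk_eq_zero M).mpr (hNmem v), map_zero]
        exact (h (M.mkQ v)).2⟩, by
          rw [LinearMap.mem_ker]
          apply Subtype.ext
          ext m
          show (h (M.mkQ (m : V)) : V) = 0
          rw [show M.mkQ (m : V) = 0 from (Submodule.Quotient.mk_eq_zero M).mpr m.2, map_zero]
          rfl⟩
      map_add' := fun f g => by ext; rfl
      map_smul' := fun k f => by ext; rfl }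
  have hι : Function.Injective ι := by
    intro f g hfg
    apply LinearMap.ext
    intro q
    obtain ⟨v, rfl⟩ := M.mkQ_surjective q
    apply Subtype.ext
    exact LinearMap.congr_fun (congrArg (fun z : LinearMap.ker res => ((z : cent T) : Module.End K V)) hfg) v
  have h1 := @LinearMap.finrank_range_add_finrank_ker K (cent T) _ _ _ (cent (onRange T c)) _ _ _ res
  rw [LinearMap.range_eq_top.mpr hsurj, finrank_top] at h1
  have h2 := LinearMap.finrank_le_finrank_of_injective hι
  rw [Module.finrank_linearMap] at h2
  have h3 : Module.finrank K (V ⧸ M) = Module.finrank K (LinearMap.ker N) := by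
    have := Submodule.finrank_quotient_add_finrank M
    have := LinearMap.finrank_range_add_finrank_ker N
    rw [← hM] at this
    omega
  rw [h3] at h2
  rw [← h1, sq]
  linarith

/-- An endomorphism killed by `(T-c₁)(T-c₂)`. -/
theorem finrank_cent_two (T : Module.End K V) (c₁ c₂ : K) (h : (T - c₂ • 1) * (T - c₁ • 1) = 0) :
    Module.finrank K (LinearMap.ker (T - c₁ • 1)) ^ 2 +
      (Module.finrank K V - Module.finrank K (LinearMap.ker (T - c₁ • 1))) ^ 2 ≤
      Module.finrank K (cent T) := by
  refine le_trans ?_ (finrank_cent_ge T c₁)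
  have e : onRange T c₁ = c₂ • 1 := by
    apply LinearMap.ext
    rintro ⟨v, w, rfl⟩
    apply Subtype.ext
    have h1 := LinearMap.congr_fun h w
    simp only [Module.End.mul_apply, LinearMap.sub_apply, LinearMap.smul_apply, Module.End.one_apply,
      LinearMap.zero_apply, sub_eq_zero] at h1
    show T ((T - c₁ • 1) w) = c₂ • ((T - c₁ • 1) w)
    simpa using h1
  rw [e, cent_smul_one, finrank_top, Module.finrank_linearMap]
  have := LinearMap.finrank_range_add_finrank_ker (T - c₁ • 1)
  rw [show Module.finrank K V - Module.finrank K (LinearMap.ker (T - c₁ • 1))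
    = Module.finrank K (LinearMap.range (T - c₁ • 1)) by omega, sq (Module.finrank K (LinearMap.range _))]

theorem finrank_cent_sq (T : Module.End K V) (c : K) :
    Module.finrank K (LinearMap.ker (T - c • 1)) ^ 2 ≤ Module.finrank K (cent T) :=
  le_trans (Nat.le_add_right _ _) (finrank_cent_ge T c)

end CfsgLib.ExtraEigen
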