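import Mathlib
import Cfsg.Agent.Lib.ExtraEigen.Centralizer

/-!
A projective representation of an abelian group spanning all endomorphisms (the image of an
extraspecial group) together with an endomorphism normalizing it (helper62).
-/

set_option autoImplicit false

namespace CfsgLib.ExtraEigen

variable {K : Type*} [Field K] {V : Type*} [AddCommGroup V] [Module K V] [FiniteDimensional K V]
  {A : Type*} [CommGroup A] [Fintype A]

/-- The data. -/
structure Sys (K V A : Type*) [Field K] [AddCommGroup V] [Module K V] [CommGroup A] (r ϖ : ℕ) where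
  X : A → Module.End K V
  e : A → A → K
  c : A → K
  g : Module.End K V
  φ : MulAut A
  one : X 1 = 1
  mul : ∀ a b, ∃ k : K, k ≠ 0 ∧ X a * X b = k • X (a * b)
  comm : ∀ a b, X a * X b = e a b • (X b * X a)
  nd : ∀ a, a ≠ 1 → ∃ b, e a b ≠ 1
  span : Submodule.span K (Set.range X) = ⊤
  conj : ∀ a, g * X a = c a • (X (φ a) * g)
  hr : r.Prime
  hϖ : ϖ.Prime
  expo : ∀ a : A, a ^ r = 1
  gpow : g ^ ϖ = 1
  gns : ∀ s : K, g ≠ s • 1

variable {r ϖ : ℕ} (S : Sys K V A r ϖ)

set_option linter.unusedSectionVars false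
include S

theorem Sys.nontrivial : Nontrivial V := by
  by_contra h
  rw [not_nontrivial_iff_subsingleton] at h
  exact S.gns 1 (LinearMap.ext fun v => Subsingleton.elim _ _)

theorem Sys.finrank_pos : 0 < Module.finrank K V :=
  have := S.nontrivial
  Module.finrank_pos

theorem Sys.one_ne : (1 : Module.End K V) ≠ 0 := by
  have := S.nontrivial
  exact one_ne_zero

theorem Sys.isUnit_X (a : A) : IsUnit (S.X a) := by
  obtain ⟨k, hk, h⟩ := S.mul a a⁻¹
  obtain ⟨k', hk', h'⟩ := S.mul a⁻¹ a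
  rw [mul_inv_cancel, S.one] at h
  rw [inv_mul_cancel, S.one] at h'
  exact isUnit_iff_exists_and_exists.mpr ⟨⟨k⁻¹ • S.X a⁻¹, by rw [mul_smul_comm, h, inv_smul_smul₀ hk]⟩,
    ⟨k'⁻¹ • S.X a⁻¹, by rw [smul_mul_assoc, h', inv_smul_smul₀ hk']⟩⟩

theorem Sys.X_ne (a : A) : S.X a ≠ 0 := fun h => by
  have h1 := S.isUnit_X a
  rw [h, isUnit_zero_iff] at h1
  exact S.one_ne h1.symm

theorem Sys.X_inj (a : A) : Function.Injective (S.X a) :=
  ((Module.End.isUnit_iff _).mp (S.isUnit_X a)).1

theorem Sys.isUnit_g : IsUnit S.g :=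
  IsUnit.of_pow_eq_one S.gpow S.hϖ.ne_zero

theorem Sys.g_inj : Function.Injective S.g :=
  ((Module.End.isUnit_iff _).mp S.isUnit_g).1

theorem Sys.smul_cancel {M : Module.End K V} (hM : IsUnit M) {s t : K} (h : s • M = t • M) : s = t := by
  have h1 : (s - t) • M = 0 := by rw [sub_smul, h, sub_self]
  rcases smul_eq_zero.mp h1 with h2 | h2
  · exact sub_eq_zero.mp h2
  · exact absurd (h2 ▸ hM) (by rw [isUnit_zero_iff]; exact S.one_ne.symm)

theorem Sys.e_ne (a b : A) : S.e a b ≠ 0 := fun h => by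
  have h1 := (S.isUnit_X a).mul (S.isUnit_X b)
  rw [S.comm, h, zero_smul, isUnit_zero_iff] at h1
  exact S.one_ne h1.symm

theorem Sys.e_mul (a b b' : A) : S.e a (b * b') = S.e a b * S.e a b' := by
  obtain ⟨k, hk, h⟩ := S.mul b b'
  refine S.smul_cancel ((S.isUnit_X (b * b')).mul (S.isUnit_X a)) (smul_right_injective _ hk ?_)
  show k • S.e a (b * b') • (S.X (b * b') * S.X a) = k • (S.e a b * S.e a b') • (S.X (b * b') * S.X a)
  rw [← S.comm, ← mul_smul_comm k, ← h, ← mul_assoc, S.comm a b, smul_mul_assoc, mul_assoc,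
    S.comm a b', mul_smul_comm, ← mul_assoc, h, smul_smul, smul_mul_assoc, smul_comm]

theorem Sys.e_swap (a b : A) : S.e a b * S.e b a = 1 := by
  refine S.smul_cancel ((S.isUnit_X a).mul (S.isUnit_X b)) ?_
  rw [one_smul, mul_smul, ← S.comm b a, ← S.comm a b]

theorem Sys.e_mul_left (a a' b : A) : S.e (a * a') b = S.e a b * S.e a' b := by
  have h1 := S.e_swap (a * a') b
  rw [S.e_mul] at h1
  have h2 := S.e_swap a b
  have h3 := S.e_swap a' b
  calc S.e (a * a') b = S.e (a * a') b * ((S.e a b * S.e b a) * (S.e a' b * S.e b a')) := by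
        rw [h2, h3, one_mul, mul_one]
    _ = (S.e (a * a') b * (S.e b a * S.e b a')) * (S.e a b * S.e a' b) := by ring
    _ = S.e a b * S.e a' b := by rw [h1, one_mul]

theorem Sys.e_one (a : A) : S.e a 1 = 1 := by
  have h := S.e_mul a 1 1
  rw [mul_one] at h
  exact (mul_eq_left₀ (S.e_ne a 1)).mp h.symm

theorem Sys.one_e (a : A) : S.e 1 a = 1 := by
  have := S.e_swap 1 a; rwa [S.e_one, mul_one] at this

theorem Sys.e_pow (a b : A) (j : ℕ) : S.e a (b ^ j) = S.e a b ^ j := by
  induction j with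
  | zero => rw [pow_zero, pow_zero, S.e_one]
  | succ j ih => rw [pow_succ, pow_succ, S.e_mul, ih]

theorem Sys.e_pow_r (a b : A) : S.e a b ^ r = 1 := by
  rw [← S.e_pow, S.expo, S.e_one]

theorem Sys.e_self (a : A) : S.e a a = 1 := by
  refine S.smul_cancel ((S.isUnit_X a).mul (S.isUnit_X a)) ?_
  rw [one_smul, ← S.comm]

theorem Sys.e_inv (a b : A) : S.e a b⁻¹ = (S.e a b)⁻¹ := by
  refine eq_inv_of_mul_eq_one_left ?_
  rw [← S.e_mul, inv_mul_cancel, S.e_one]

theorem Sys.primitive {a b : A} (h : S.e a b ≠ 1) : IsPrimitiveRoot (S.e a b) r := by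
  have : Fact r.Prime := ⟨S.hr⟩
  exact IsPrimitiveRoot.iff_orderOf.mpr (orderOf_eq_prime (S.e_pow_r a b) h)

/-- Proportional images come from equal elements. -/
theorem Sys.eq_of_smul {a b : A} {k : K} (h : S.X a = k • S.X b) : a = b := by
  have hk : k ≠ 0 := fun h0 => S.X_ne a (by rw [h, h0, zero_smul])
  by_contra hne
  obtain ⟨z, hz⟩ := S.nd (a * b⁻¹) (by rwa [Ne, mul_inv_eq_one])
  apply hz
  rw [S.e_mul_left]
  have h1 : S.e a z = S.e b z := by
    refine S.smul_cancel ((S.isUnit_X z).mul (S.isUnit_X a)) ?_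
    rw [← S.comm]
    nth_rewrite 1 [h]
    rw [smul_mul_assoc, S.comm b z, h, mul_smul_comm, smul_comm]
  have h2 := S.e_swap b z
  have h3 := S.e_mul_left b b⁻¹ z
  rw [mul_inv_cancel, S.one_e] at h3
  rw [h1, ← h3]

theorem Sys.c_ne (a : A) : S.c a ≠ 0 := fun h => by
  have h1 := S.isUnit_g.mul (S.isUnit_X a)
  rw [S.conj, h, zero_smul, isUnit_zero_iff] at h1
  exact S.one_ne h1.symm

theorem Sys.e_phi (a b : A) : S.e (S.φ a) (S.φ b) = S.e a b := by
  refine S.smul_cancel (((S.isUnit_X (S.φ b)).mul (S.isUnit_X (S.φ a))).mul S.isUnit_g) ?_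
  have h1 : S.g * (S.X a * S.X b) = (S.c a * S.c b) • (S.X (S.φ a) * S.X (S.φ b) * S.g) := by
    rw [← mul_assoc, S.conj, smul_mul_assoc, mul_assoc, S.conj, mul_smul_comm, smul_smul, mul_assoc]
  have h2 : S.g * (S.X b * S.X a) = (S.c b * S.c a) • (S.X (S.φ b) * S.X (S.φ a) * S.g) := by
    rw [← mul_assoc, S.conj, smul_mul_assoc, mul_assoc, S.conj, mul_smul_comm, smul_smul, mul_assoc]
  rw [S.comm a b, mul_smul_comm, h2, S.comm (S.φ a), smul_mul_assoc, smul_comm (S.e a b),
    mul_comm (S.c b)] at h1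
  exact (smul_right_injective _ (mul_ne_zero (S.c_ne a) (S.c_ne b)) h1).symm

theorem Sys.conj_pow (a : A) : ∀ j : ℕ, ∃ k : K, S.g ^ j * S.X a = k • (S.X ((S.φ ^ j) a) * S.g ^ j) := by
  intro j
  induction j with
  | zero => exact ⟨1, by simp⟩
  | succ j ih =>
    obtain ⟨k, hk⟩ := ih
    refine ⟨k * S.c ((S.φ ^ j) a), ?_⟩
    rw [pow_succ', mul_assoc, hk, mul_smul_comm, ← mul_assoc, S.conj, smul_mul_assoc, smul_smul,
      mul_assoc, pow_succ' S.φ j, MulAut.mul_apply]

theorem Sys.phi_pow : S.φ ^ ϖ = 1 := by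
  ext a
  obtain ⟨k, hk⟩ := S.conj_pow a ϖ
  rw [S.gpow, one_mul, mul_one] at hk
  rw [MulAut.one_apply]
  exact (S.eq_of_smul hk).symm

/-! ### The fixed subgroup and the range of `y ↦ y⁻¹ φ y` -/

/-- `y ↦ y⁻¹ φ y`. -/
def Sys.delta : A →* A :=
  MonoidHom.mk' (fun y => y⁻¹ * S.φ y) fun a b => by
    rw [map_mul, mul_inv_rev, mul_comm b⁻¹, mul_mul_mul_comm]

theorem Sys.delta_apply (y : A) : S.delta y = y⁻¹ * S.φ y := rfl

theorem Sys.mem_ker {a : A} : a ∈ S.delta.ker ↔ S.φ a = a := by
  rw [MonoidHom.mem_ker, S.delta_apply, inv_mul_eq_one, eq_comm]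

theorem Sys.e_range_ker {u b : A} (hu : u ∈ S.delta.range) (hb : b ∈ S.delta.ker) : S.e u b = 1 := by
  obtain ⟨y, rfl⟩ := hu
  rw [S.delta_apply, S.e_mul_left]
  have h1 := S.e_phi y b
  rw [S.mem_ker.mp hb] at h1
  have h2 := S.e_mul_left y⁻¹ y b
  rw [inv_mul_cancel, S.one_e] at h2
  rw [h1, ← h2]

theorem Sys.card_range_mul_card_ker :
    Nat.card S.delta.range * Nat.card S.delta.ker = Nat.card A := by
  rw [mul_comm, ← Subgroup.index_ker, Subgroup.card_mul_index]

/-! ### Counting -/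

theorem Sys.finrank_ne_zero : ((Module.finrank K V : ℕ) : K) ≠ 0 := by
  classical
  have := S.nontrivial
  intro hn
  have htr : ∀ a, a ≠ 1 → LinearMap.trace K V (S.X a) = 0 := by
    intro a ha
    obtain ⟨b, hb⟩ := S.nd a ha
    obtain ⟨u, hu⟩ := S.isUnit_X b
    have h1 : S.X a = S.e a b • ((u : Module.End K V) * S.X a * ↑u⁻¹) := by
      rw [← smul_mul_assoc, hu, ← S.comm, ← hu, Units.mul_inv_cancel_right]
    have h2 := congrArg (LinearMap.trace K V) h1
    rw [map_smul, LinearMap.trace_mul_comm, ← mul_assoc, Units.inv_mul, one_mul, smul_eq_mul] at h2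
    by_contra h0
    exact hb (mul_left_eq_self₀.mp h2.symm |>.resolve_right h0)
  have hall : LinearMap.trace K V = 0 := by
    refine LinearMap.ext_on_range S.span fun a => ?_
    rw [LinearMap.zero_apply]
    by_cases ha : a = 1
    · rw [ha, S.one, LinearMap.trace_one, hn]
    · exact htr a ha
  obtain ⟨v, hv⟩ := exists_ne (0 : V)
  obtain ⟨f, hf⟩ := Module.Projective.exists_dual_ne_zero K hv
  have h3 := LinearMap.congr_fun hall (dualTensorHom K V V (f ⊗ₜ[K] v))
  rw [LinearMap.trace_eq_contract_apply, contractLeft_apply, LinearMap.zero_apply] at h3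
  exact hf h3

theorem Sys.linearIndependent : LinearIndependent K S.X := by
  classical
  have hn := S.finrank_ne_zero
  rw [Fintype.linearIndependent_iff]
  intro f hf a
  obtain ⟨k, hk, h⟩ := S.mul a⁻¹ a
  have h1 := congrArg (fun M => LinearMap.trace K V (S.X a⁻¹ * M)) hf
  simp only [Finset.mul_sum, mul_smul_comm, map_sum, map_smul, mul_zero, map_zero] at h1
  rw [Finset.sum_eq_single a ?_ (fun h => absurd (Finset.mem_univ a) h)] at h1
  · rw [h, inv_mul_cancel, S.one, map_smul, LinearMap.trace_one, smul_eq_mul, smul_eq_mul] at h1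
    exact (mul_eq_zero.mp h1).resolve_right (mul_ne_zero hk hn)
  · intro b _ hba
    obtain ⟨k', -, h'⟩ := S.mul a⁻¹ b
    obtain ⟨z, hz⟩ := S.nd (a⁻¹ * b) (by rw [Ne, inv_mul_eq_one]; exact Ne.symm hba)
    obtain ⟨u, hu⟩ := S.isUnit_X z
    have h2 : S.X (a⁻¹ * b) = S.e (a⁻¹ * b) z • ((u : Module.End K V) * S.X (a⁻¹ * b) * ↑u⁻¹) := by
      rw [← smul_mul_assoc, hu, ← S.comm, ← hu, Units.mul_inv_cancel_right]
    have h3 := congrArg (LinearMap.trace K V) h2
    rw [map_smul, LinearMap.trace_mul_comm, ← mul_assoc, Units.inv_mul, one_mul, smul_eq_mul] at h3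
    have h4 : LinearMap.trace K V (S.X (a⁻¹ * b)) = 0 := by
      by_contra h0
      exact hz (mul_left_eq_self₀.mp h3.symm |>.resolve_right h0)
    rw [h', map_smul, h4, smul_zero, smul_zero]

theorem Sys.card_eq : Nat.card A = Module.finrank K V ^ 2 := by
  have h := finrank_span_eq_card S.linearIndependent
  rw [S.span, finrank_top, Module.finrank_linearMap] at h
  rw [Nat.card_eq_fintype_card, ← h, sq]

/-- Coordinates of an endomorphism commuting with `g` are determined on orbit representatives. -/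
theorem Sys.finrank_cent_le :
    Module.finrank K (cent S.g) ≤
      Nat.card (Quotient (MulAction.orbitRel (Subgroup.zpowers S.φ) A)) := by
  classical
  have := Fintype.ofFinite (Quotient (MulAction.orbitRel (Subgroup.zpowers S.φ) A))
  let B : Module.Basis A K (Module.End K V) := .mk S.linearIndependent S.span.ge
  have hB : ∀ a, B a = S.X a := fun a => Module.Basis.mk_apply _ _ a
  have hcoef : ∀ M ∈ cent S.g, ∀ a, B.repr M (S.φ a) = S.c a * B.repr M a := by
    intro M hM a
    obtain ⟨u, hu⟩ := S.isUnit_g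
    have h1 : M = ∑ b, (S.c b * B.repr M b) • B (S.φ b) := by
      have h2 : S.g * M = ∑ b, (B.repr M b * S.c b) • (S.X (S.φ b) * S.g) := by
        conv_lhs => rw [← B.sum_repr M, Finset.mul_sum]
        simp only [mul_smul_comm, hB, S.conj, smul_smul]
      rw [mem_cent.mp hM] at h2
      have h3 := congrArg (fun N => N * (↑u⁻¹ : Module.End K V)) h2
      simp only [← hu, mul_assoc, Units.mul_inv, mul_one, Finset.sum_mul, smul_mul_assoc] at h3
      nth_rewrite 1 [h3]
      simp only [hB, mul_comm]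
    have h4 := congrArg (fun N => B.repr N (S.φ a)) h1
    simp only [map_sum, map_smul, Finsupp.finsetSum_apply, Finsupp.smul_apply, Module.Basis.repr_self,
      Finsupp.single_apply, smul_eq_mul, mul_ite, mul_one, mul_zero, EmbeddingLike.apply_eq_iff_eq,
      Finset.sum_ite_eq', Finset.mem_univ, if_true] at h4
    exact h4
  let F : cent S.g →ₗ[K] (Quotient (MulAction.orbitRel (Subgroup.zpowers S.φ) A) → K) :=
    LinearMap.pi fun q => (Finsupp.lapply q.out) ∘ₗ B.repr.toLinearMap ∘ₗ (cent S.g).subtype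
  have hF : Function.Injective F := by
    rw [injective_iff_map_eq_zero]
    intro M hM
    have key : ∀ h ∈ Subgroup.zpowers S.φ, ∀ a, B.repr (M : Module.End K V) a = 0 →
        B.repr (M : Module.End K V) (h a) = 0 := by
      intro h hh
      have hfin : IsOfFinOrder S.φ := isOfFinOrder_iff_pow_eq_one.mpr ⟨ϖ, S.hϖ.pos, S.phi_pow⟩
      obtain ⟨j, rfl⟩ : h ∈ Submonoid.powers S.φ := hfin.mem_powers_iff_mem_zpowers.mpr hh
      intro a ha
      clear hh
      induction j with
      | zero => simpa using ha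
      | succ j ih =>
        show B.repr (M : Module.End K V) ((S.φ ^ (j + 1)) a) = 0
        rw [pow_succ', MulAut.mul_apply, hcoef _ M.2]
        have : B.repr (M : Module.End K V) ((S.φ ^ j) a) = 0 := ih
        rw [this, mul_zero]
    apply Subtype.ext
    apply B.repr.injective
    ext a
    rw [ZeroMemClass.coe_zero, map_zero, Finsupp.zero_apply]
    obtain ⟨h, hh⟩ := Quotient.exact ((⟦a⟧ : Quotient (MulAction.orbitRel (Subgroup.zpowers S.φ) A)).out_eq).symm
    have hh' : (h : MulAut A) (⟦a⟧ : Quotient (MulAction.orbitRel (Subgroup.zpowers S.φ) A)).out = a := hh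
    rw [← hh']
    exact key _ h.2 _ (congrFun hM _)
  have := LinearMap.finrank_le_finrank_of_injective hF
  rwa [Module.finrank_fintype_fun_eq_card, ← Nat.card_eq_fintype_card] at this

theorem Sys.orbit_count (h1 : S.φ ≠ 1) :
    ϖ * Nat.card (Quotient (MulAction.orbitRel (Subgroup.zpowers S.φ) A)) =
      Nat.card A + (ϖ - 1) * Nat.card S.delta.ker := by
  classical
  set H := Subgroup.zpowers S.φ
  have : Fact ϖ.Prime := ⟨S.hϖ⟩
  have hH : Nat.card H = ϖ := by rw [Nat.card_zpowers, orderOf_eq_prime S.phi_pow h1]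
  have := Fintype.ofFinite H
  have := Fintype.ofFinite (Quotient (MulAction.orbitRel H A))
  have hfix : ∀ h : H, h ≠ 1 → Fintype.card (MulAction.fixedBy A h) = Nat.card S.delta.ker := by
    intro h hh
    rw [← Nat.card_eq_fintype_card]
    have hz : Subgroup.zpowers (h : MulAut A) = H := by
      refine Subgroup.eq_of_le_of_card_ge (Subgroup.zpowers_le.mpr h.2) ?_
      rw [Nat.card_zpowers (h : MulAut A), hH]
      refine (orderOf_eq_prime (x := (h : MulAut A)) ?_ (by simpa using hh)).ge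
      rw [← hH, ← SubmonoidClass.coe_pow, pow_card_eq_one']
      rfl
    refine Nat.card_congr (Equiv.subtypeEquivRight fun a => ?_)
    rw [MulAction.mem_fixedBy, S.mem_ker]
    constructor
    · intro ha
      have hle : H ≤ MulAction.stabilizer (MulAut A) a := by
        rw [← hz]; exact Subgroup.zpowers_le.mpr ha
      exact hle (Subgroup.mem_zpowers S.φ)
    · intro ha
      exact (Subgroup.zpowers_le.mpr (show S.φ ∈ MulAction.stabilizer (MulAut A) a from ha)) h.2
  have hb := MulAction.sum_card_fixedBy_eq_card_orbits_mul_card_group H A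
  rw [← Finset.add_sum_erase _ _ (Finset.mem_univ 1),
    Finset.sum_congr rfl (fun h hh => hfix h (Finset.ne_of_mem_erase hh)), Finset.sum_const,
    Finset.card_erase_of_mem (Finset.mem_univ 1), Finset.card_univ, smul_eq_mul,
    ← Nat.card_eq_fintype_card (α := H), hH] at hb
  have h0 : Fintype.card (MulAction.fixedBy A (1 : H)) = Nat.card A := by
    rw [← Nat.card_eq_fintype_card]
    exact Nat.card_congr ((Equiv.setCongr (by rw [MulAction.fixedBy_one_eq_univ])).trans (Equiv.Set.univ A))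
  rw [h0, ← Nat.card_eq_fintype_card] at hb
  rw [mul_comm ϖ, hb]

/-- The counting bound for the centralizer. -/
theorem Sys.cent_bound (h1 : S.φ ≠ 1) :
    ϖ * Nat.card S.delta.range * Module.finrank K (cent S.g) ≤
      Module.finrank K V ^ 2 * (Nat.card S.delta.range + (ϖ - 1)) := by
  have h := S.orbit_count h1
  have hc := S.card_range_mul_card_ker
  rw [S.card_eq] at h hc
  calc ϖ * Nat.card S.delta.range * Module.finrank K (cent S.g)
      ≤ Nat.card S.delta.range * (ϖ * Nat.card (Quotient (MulAction.orbitRel (Subgroup.zpowers S.φ) A))) := by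
        rw [mul_comm ϖ, mul_assoc]
        exact Nat.mul_le_mul_left _ (Nat.mul_le_mul_left _ S.finrank_cent_le)
    _ = _ := by rw [h, mul_add, mul_left_comm, hc]; ring

end CfsgLib.ExtraEigen
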