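import Mathlib
import Cfsg.Agent.Lib.ExtraEigen.Setup

/-!
Elementary eigenspace bounds for an endomorphism normalizing an extraspecial group (helper62).
-/

set_option autoImplicit false

namespace CfsgLib.ExtraEigen

open Module.End (eigenspace mem_eigenspace_iff)

variable {K : Type*} [Field K] {V : Type*} [AddCommGroup V] [Module K V] [FiniteDimensional K V]

omit [FiniteDimensional K V] in
theorem eigenspace_eq_ker (T : Module.End K V) (c : K) : eigenspace T c = LinearMap.ker (T - c • 1) := by
  ext v
  simp [sub_eq_zero]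

omit [FiniteDimensional K V] in
theorem map_eig {T M : Module.End K V} {q t : K} (h : T * M = q • (M * T)) {v : V}
    (hv : v ∈ eigenspace T t) : M v ∈ eigenspace T (q * t) := by
  rw [mem_eigenspace_iff] at hv ⊢
  have h1 := LinearMap.congr_fun h v
  simp only [Module.End.mul_apply, LinearMap.smul_apply, hv, map_smul, smul_smul] at h1
  exact h1

theorem finrank_le_of_mapsTo {M : Module.End K V} (hM : Function.Injective M) {P Q : Submodule K V}
    (h : ∀ v ∈ P, M v ∈ Q) : Module.finrank K P ≤ Module.finrank K Q :=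
  LinearMap.finrank_le_finrank_of_injective (f := M.restrict h) fun _ _ hab =>
    Subtype.ext (hM (congrArg Subtype.val hab))

theorem sum_finrank_le {ι : Type*} (s : Finset ι) (P : ι → Submodule K V) (h : iSupIndep P) :
    ∑ i ∈ s, Module.finrank K (P i) ≤ Module.finrank K V := by
  classical
  suffices hs : ∑ i ∈ s, Module.finrank K (P i) = Module.finrank K (s.sup P : Submodule K V) by
    rw [hs]; exact Submodule.finrank_le _
  induction s using Finset.induction with
  | empty => rw [Finset.sum_empty, Finset.sup_empty, finrank_bot]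
  | insert a s ha ih =>
    have hd : Disjoint (P a) (s.sup P) :=
      (h.supIndep' (insert a s)) (Finset.subset_insert a s) (Finset.mem_insert_self a s) ha
    have h1 := Submodule.finrank_sup_add_finrank_inf_eq (P a) (s.sup P)
    rw [hd.eq_bot, finrank_bot, add_zero] at h1
    rw [Finset.sum_insert ha, ih, Finset.sup_insert, h1]

/-- Two subspaces: `dim (P ⊓ Q) ≥ dim P + dim Q - n`. -/
theorem finrank_inf_ge (P Q : Submodule K V) :
    Module.finrank K P + Module.finrank K Q ≤ Module.finrank K ↥(P ⊓ Q) + Module.finrank K V := by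
  have := Submodule.finrank_sup_add_finrank_inf_eq P Q
  have := Submodule.finrank_le (P ⊔ Q)
  omega

variable {A : Type*} [CommGroup A] [Fintype A] {r ϖ : ℕ} (S : Sys K V A r ϖ)

set_option linter.unusedSectionVars false
include S

theorem Sys.pow_eq_one_of_eig {t : K} (h : 0 < Module.finrank K (eigenspace S.g t)) : t ^ ϖ = 1 := by
  obtain ⟨v, hv, hv0⟩ := Submodule.exists_mem_ne_zero_of_ne_bot
    (p := eigenspace S.g t) fun h0 => by rw [h0, finrank_bot] at h; omega
  rw [mem_eigenspace_iff] at hv
  have hj : ∀ j : ℕ, (S.g ^ j) v = t ^ j • v := by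
    intro j
    induction j with
    | zero => simp
    | succ j ih => rw [pow_succ', Module.End.mul_apply, ih, map_smul, hv, smul_smul, pow_succ]
  have h1 := hj ϖ
  rw [S.gpow, Module.End.one_apply] at h1
  have h2 : (t ^ ϖ - 1) • v = 0 := by rw [sub_smul, one_smul, ← h1, sub_self]
  exact sub_eq_zero.mp ((smul_eq_zero.mp h2).resolve_right hv0)

theorem Sys.ne_zero_of_eig {t : K} (h : 0 < Module.finrank K (eigenspace S.g t)) : t ≠ 0 := by
  intro h0
  have := S.pow_eq_one_of_eig h
  rw [h0, zero_pow S.hϖ.ne_zero] at this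
  exact zero_ne_one this

theorem Sys.finrank_comap (a : A) (P : Submodule K V) :
    Module.finrank K P ≤ Module.finrank K (P.comap (S.X a)) := by
  obtain ⟨u, hu⟩ := S.isUnit_X a
  refine finrank_le_of_mapsTo (M := ((u⁻¹ : (Module.End K V)ˣ) : Module.End K V))
    ((Module.End.isUnit_iff _).mp (Units.isUnit _)).1 fun v hv => ?_
  rw [Submodule.mem_comap, ← hu, ← Module.End.mul_apply, Units.mul_inv, Module.End.one_apply]
  exact hv

/-- For `u ≠ 1` the eigenspaces of `X u` have dimension at most `n / r`. -/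
theorem Sys.eig_X_le {u : A} (hu : u ≠ 1) (t : K) :
    r * Module.finrank K (eigenspace (S.X u) t) ≤ Module.finrank K V := by
  obtain ⟨z, hz⟩ := S.nd u hu
  have hq := S.primitive hz
  set q := S.e u z with hqdef
  rcases eq_or_ne t 0 with rfl | ht
  · have : eigenspace (S.X u) (0 : K) = ⊥ := by
      rw [eigenspace_eq_ker, zero_smul, sub_zero]
      exact LinearMap.ker_eq_bot.mpr (S.X_inj u)
    rw [this, finrank_bot, mul_zero]
    exact Nat.zero_le _
  · let P : Fin r → Submodule K V := fun j => eigenspace (S.X u) (q ^ (j : ℕ) * t)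
    have hinj : Function.Injective fun j : Fin r => q ^ (j : ℕ) * t := fun i j hij =>
      Fin.ext (hq.pow_inj i.2 j.2 (mul_right_cancel₀ ht hij))
    have hind : iSupIndep P := (Module.End.eigenspaces_iSupIndep (S.X u)).comp hinj
    have hstep : ∀ j : ℕ, Module.finrank K (eigenspace (S.X u) t) ≤
        Module.finrank K (eigenspace (S.X u) (q ^ j * t)) := by
      intro j
      induction j with
      | zero => rw [pow_zero, one_mul]
      | succ j ih =>
        refine ih.trans (finrank_le_of_mapsTo (S.X_inj z) fun v hv => ?_)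
        rw [pow_succ', mul_assoc]
        exact map_eig (S.comm u z) hv
    calc r * Module.finrank K (eigenspace (S.X u) t)
        = ∑ _j : Fin r, Module.finrank K (eigenspace (S.X u) t) := by simp
      _ ≤ ∑ j : Fin r, Module.finrank K (P j) := Finset.sum_le_sum fun j _ => hstep j
      _ ≤ _ := sum_finrank_le _ P hind

/-- `X y` maps a part of the eigenspace back into it only inside an eigenspace of `X (δ y)`. -/
theorem Sys.exists_eig_delta {t : K} (ht : t ≠ 0) (y : A) :
    ∃ s : K, s ≠ 0 ∧ eigenspace S.g t ⊓ (eigenspace S.g t).comap (S.X y) ≤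
      eigenspace (S.X (S.delta y)) s := by
  obtain ⟨k, hk, hkm⟩ := S.mul y (S.delta y)
  rw [S.delta_apply, mul_inv_cancel_left] at hkm
  refine ⟨k * (S.c y)⁻¹, mul_ne_zero hk (inv_ne_zero (S.c_ne y)), ?_⟩
  rintro v ⟨hv, hv'⟩
  rw [SetLike.mem_coe, mem_eigenspace_iff] at hv
  rw [SetLike.mem_coe, Submodule.mem_comap, mem_eigenspace_iff] at hv'
  rw [mem_eigenspace_iff]
  have h1 := LinearMap.congr_fun (S.conj y) v
  simp only [Module.End.mul_apply, LinearMap.smul_apply, hv, hv', map_smul, smul_smul] at h1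
  have h2 : S.X y v = S.c y • S.X (S.φ y) v := by
    apply smul_right_injective V ht
    show t • S.X y v = t • (S.c y • S.X (S.φ y) v)
    rw [smul_smul, mul_comm, h1]
  apply S.X_inj y
  have h3 := LinearMap.congr_fun hkm v
  rw [Module.End.mul_apply, LinearMap.smul_apply] at h3
  rw [map_smul, S.delta_apply, h3, h2, smul_smul, inv_mul_cancel_right₀ (S.c_ne y)]

theorem Sys.delta_ne {y : A} (hy : S.φ y ≠ y) : S.delta y ≠ 1 := fun h =>
  hy (S.mem_ker.mp (MonoidHom.mem_ker.mpr h))

/-- A moved element bounds the eigenspace by `n (r + 1) / (2 r)`. -/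
theorem Sys.bound_moved {y : A} (hy : S.φ y ≠ y) (t : K) :
    r * (2 * Module.finrank K (eigenspace S.g t)) ≤ (r + 1) * Module.finrank K V := by
  rcases Nat.eq_zero_or_pos (Module.finrank K (eigenspace S.g t)) with hd | hd
  · rw [hd]; simp
  obtain ⟨s, -, hs⟩ := S.exists_eig_delta (S.ne_zero_of_eig hd) y
  have h1 := Submodule.finrank_mono hs
  have h2 := finrank_inf_ge (eigenspace S.g t) ((eigenspace S.g t).comap (S.X y))
  have h3 := S.finrank_comap y (eigenspace S.g t)
  have h4 := S.eig_X_le (S.delta_ne hy) s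
  calc r * (2 * Module.finrank K (eigenspace S.g t))
      ≤ r * (Module.finrank K (eigenspace (S.X (S.delta y)) s) + Module.finrank K V) :=
        Nat.mul_le_mul_left _ (by omega)
    _ ≤ _ := by rw [mul_add, add_mul, one_mul]; omega

/-- Two moves with non-commuting commutators bound the eigenspace by `2 n / 3`. -/
theorem Sys.bound_two {y₁ y₂ : A} (hy : S.e (S.delta y₁) (S.delta y₂) ≠ 1) (t : K) :
    3 * Module.finrank K (eigenspace S.g t) ≤ 2 * Module.finrank K V := by
  rcases Nat.eq_zero_or_pos (Module.finrank K (eigenspace S.g t)) with hd | hd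
  · rw [hd]; simp
  have ht := S.ne_zero_of_eig hd
  obtain ⟨s₁, hs₁, hl₁⟩ := S.exists_eig_delta ht y₁
  obtain ⟨s₂, hs₂, hl₂⟩ := S.exists_eig_delta ht y₂
  by_contra hlt
  set W := eigenspace S.g t
  have h2 := finrank_inf_ge W (W.comap (S.X y₁))
  have h3 := finrank_inf_ge (W ⊓ W.comap (S.X y₁)) (W.comap (S.X y₂))
  have h4 := S.finrank_comap y₁ W
  have h5 := S.finrank_comap y₂ W
  have hne : (W ⊓ W.comap (S.X y₁)) ⊓ W.comap (S.X y₂) ≠ ⊥ := fun h => by
    rw [h, finrank_bot] at h3; omega
  obtain ⟨v, hv, hv0⟩ := Submodule.exists_mem_ne_zero_of_ne_bot hne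
  have e1 := mem_eigenspace_iff.mp (hl₁ hv.1)
  have e2 := mem_eigenspace_iff.mp (hl₂ ⟨hv.1.1, hv.2⟩)
  have h6 := LinearMap.congr_fun (S.comm (S.delta y₁) (S.delta y₂)) v
  simp only [Module.End.mul_apply, LinearMap.smul_apply, e1, e2, map_smul, smul_smul] at h6
  apply hy
  have h7 : (s₂ * s₁) • v = (S.e (S.delta y₁) (S.delta y₂) * (s₂ * s₁)) • v := by
    rw [h6]; ring_nf
  have h8 := smul_left_injective K hv0 h7
  exact (mul_eq_right₀ (mul_ne_zero hs₂ hs₁)).mp h8.symm

/-- A fixed element with non-trivial multiplier bounds the eigenspace by `n / 2`. -/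
theorem Sys.bound_fixed {y : A} (hy : S.φ y = y) (hc : S.c y ≠ 1) (t : K) :
    2 * Module.finrank K (eigenspace S.g t) ≤ Module.finrank K V := by
  rcases Nat.eq_zero_or_pos (Module.finrank K (eigenspace S.g t)) with hd | hd
  · rw [hd]; simp
  have ht := S.ne_zero_of_eig hd
  have h := S.conj y
  rw [hy] at h
  have h1 : Module.finrank K (eigenspace S.g t) ≤ Module.finrank K (eigenspace S.g (S.c y * t)) :=
    finrank_le_of_mapsTo (S.X_inj y) fun v hv => map_eig h hv
  have hne : t ≠ S.c y * t := fun h0 => hc ((mul_eq_right₀ ht).mp h0.symm)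
  have hd' : Disjoint (eigenspace S.g t) (eigenspace S.g (S.c y * t)) :=
    (Module.End.eigenspaces_iSupIndep S.g).pairwiseDisjoint hne
  have h2 := Submodule.finrank_sup_add_finrank_inf_eq (eigenspace S.g t) (eigenspace S.g (S.c y * t))
  rw [hd'.eq_bot, finrank_bot, add_zero] at h2
  have h3 := Submodule.finrank_le (eigenspace S.g t ⊔ eigenspace S.g (S.c y * t))
  omega

/-- Otherwise `g` centralizes the fixed part and moves something. -/
theorem Sys.of_large {t : K} (hlt : Module.finrank K V < 2 * Module.finrank K (eigenspace S.g t)) :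
    S.φ ≠ 1 ∧ ∀ y ∈ S.delta.ker, S.c y = 1 := by
  have hc : ∀ y, S.φ y = y → S.c y = 1 := fun y hy => by
    by_contra hc
    have := S.bound_fixed hy hc t
    omega
  refine ⟨fun hφ => ?_, fun y hy => hc y (S.mem_ker.mp hy)⟩
  have hg : ∀ M : Module.End K V, S.g * M = M * S.g := by
    intro M
    have hM : M ∈ cent S.g := by
      have hle : Submodule.span K (Set.range S.X) ≤ cent S.g := by
        rw [Submodule.span_le]
        rintro _ ⟨a, rfl⟩
        have ha : S.φ a = a := by rw [hφ]; rfl
        rw [SetLike.mem_coe, mem_cent, S.conj, hc a ha, one_smul, ha]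
      exact hle (by rw [S.span]; trivial)
    exact hM
  have hcen : S.g ∈ Subalgebra.center K (Module.End K V) :=
    Subalgebra.mem_center_iff.mpr fun M => (hg M).symm
  rw [Algebra.IsCentral.center_eq_bot, Algebra.mem_bot] at hcen
  obtain ⟨s, hs⟩ := hcen
  exact S.gns s (by rw [← hs, Algebra.algebraMap_eq_smul_one])

end CfsgLib.ExtraEigen
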