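import Mathlib
import Cfsg.Agent.Lib.ExtraEigen.Eigen

/-!
The subgroup `range δ` and the transvection case (helper62).
-/

set_option autoImplicit false

namespace CfsgLib.ExtraEigen

open Module.End (eigenspace mem_eigenspace_iff)

variable {K : Type*} [Field K] {V : Type*} [AddCommGroup V] [Module K V] [FiniteDimensional K V]
  {A : Type*} [CommGroup A] [Fintype A] {r ϖ : ℕ} (S : Sys K V A r ϖ)

set_option linter.unusedSectionVars false
include S

theorem Sys.pGroup : IsPGroup r A := fun a => ⟨1, by rw [pow_one]; exact S.expo a⟩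

theorem Sys.card_range_pow : ∃ j, Nat.card S.delta.range = r ^ j := by
  have : Fact r.Prime := ⟨S.hr⟩
  exact IsPGroup.iff_card.mp (S.pGroup.to_subgroup _)

theorem Sys.one_lt_card_range (hφ : S.φ ≠ 1) : 1 < Nat.card S.delta.range := by
  rw [Finite.one_lt_card_iff_nontrivial, Subgroup.nontrivial_iff_ne_bot, Ne,
    MonoidHom.range_eq_bot_iff]
  intro h
  apply hφ
  ext a
  rw [MulAut.one_apply]
  exact S.mem_ker.mp (MonoidHom.mem_ker.mpr (by rw [h]; rfl))

theorem Sys.phi_pow_delta {y : A} (hy : S.φ (S.delta y) = S.delta y) :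
    ∀ j : ℕ, (S.φ ^ j) y = y * S.delta y ^ j := by
  intro j
  induction j with
  | zero => simp
  | succ j ih =>
    rw [pow_succ' S.φ, MulAut.mul_apply, ih, map_mul, map_pow, hy, pow_succ' (S.delta y),
      ← mul_assoc, S.delta_apply, mul_inv_cancel_left]

theorem Sys.disjoint_range_ker (hne : r ≠ ϖ) : Disjoint S.delta.range S.delta.ker := by
  rw [Subgroup.disjoint_def]
  rintro _ ⟨y, rfl⟩ hx
  have h := S.phi_pow_delta (S.mem_ker.mp hx) ϖ
  rw [S.phi_pow, MulAut.one_apply, left_eq_mul] at h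
  have hco : Nat.Coprime r ϖ := (Nat.coprime_primes S.hr S.hϖ).mpr hne
  have h1 : S.delta y ^ Nat.gcd r ϖ = 1 := pow_gcd_eq_one.mpr ⟨S.expo _, h⟩
  rwa [hco, pow_one] at h1

/-- For `r ≠ ϖ` the form is non-degenerate on `range δ`. -/
theorem Sys.nd_range (hne : r ≠ ϖ) {u : A} (hu : u ∈ S.delta.range) (hu1 : u ≠ 1) :
    ∃ i ∈ S.delta.range, S.e u i ≠ 1 := by
  have hc : Subgroup.IsComplement' S.delta.range S.delta.ker :=
    Subgroup.isComplement'_of_card_mul_and_disjoint S.card_range_mul_card_ker (S.disjoint_range_ker hne)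
  obtain ⟨b, hb⟩ := S.nd u hu1
  have hb' : b ∈ S.delta.range ⊔ S.delta.ker := by rw [hc.sup_eq_top]; trivial
  obtain ⟨i, hi, cc, hcc, rfl⟩ := Subgroup.mem_sup.mp hb'
  refine ⟨i, hi, fun h => hb ?_⟩
  rw [S.e_mul, h, S.e_range_ker hu hcc, one_mul]

theorem Sys.range_form (hne : r ≠ ϖ) (hφ : S.φ ≠ 1) :
    ∃ y₁ y₂, S.e (S.delta y₁) (S.delta y₂) ≠ 1 := by
  have h := S.one_lt_card_range hφ
  rw [Finite.one_lt_card_iff_nontrivial, Subgroup.nontrivial_iff_ne_bot, Subgroup.ne_bot_iff_exists_ne_one] at h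
  obtain ⟨⟨u, hu⟩, hu1⟩ := h
  obtain ⟨i, hi, he⟩ := S.nd_range hne hu (fun h0 => hu1 (Subtype.ext h0))
  obtain ⟨y₁, rfl⟩ := hu
  obtain ⟨y₂, rfl⟩ := hi
  exact ⟨y₁, y₂, he⟩

theorem Sys.card_range_facts (hne : r ≠ ϖ) (hφ : S.φ ≠ 1) :
    ∃ j, 2 ≤ j ∧ Nat.card S.delta.range = r ^ j ∧ r ^ j % ϖ = 1 := by
  obtain ⟨j, hj⟩ := S.card_range_pow
  have h1 := S.one_lt_card_range hφ
  refine ⟨j, ?_, hj, ?_⟩
  · by_contra hj2
    have hj1 : j = 1 := by
      rcases j with - | - | j
      · rw [hj, pow_zero] at h1; exact absurd h1 (lt_irrefl 1)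
      · rfl
      · omega
    rw [hj1, pow_one] at hj
    have : Fact r.Prime := ⟨S.hr⟩
    have := isCyclic_of_prime_card hj
    obtain ⟨y₁, y₂, he⟩ := S.range_form hne hφ
    apply he
    obtain ⟨⟨g, hg⟩, hgen⟩ := IsCyclic.exists_generator (α := S.delta.range)
    have key : ∀ y, ∃ m : ℕ, S.delta y = g ^ m := fun y => by
      obtain ⟨m, hm⟩ := mem_powers_iff_mem_zpowers.mpr (hgen ⟨S.delta y, ⟨y, rfl⟩⟩)
      exact ⟨m, (congrArg Subtype.val hm).symm⟩
    obtain ⟨m₁, hm₁⟩ := key y₁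
    obtain ⟨m₂, hm₂⟩ := key y₂
    rw [hm₁, hm₂, S.e_pow]
    have h2 := S.e_swap (g ^ m₁) g
    rw [S.e_pow, S.e_self, one_pow, mul_one] at h2
    rw [h2, one_pow]
  · have : Fact r.Prime := ⟨S.hr⟩
    obtain ⟨i, hi⟩ := IsPGroup.iff_card.mp (S.pGroup.to_subgroup S.delta.ker)
    have h := S.orbit_count hφ
    rw [← S.card_range_mul_card_ker, hj, hi] at h
    have hdvd : ϖ ∣ r ^ i * (r ^ j + (ϖ - 1)) := Dvd.intro _ (by rw [h, mul_add, mul_comm (r ^ i), mul_comm (r ^ i)])
    have hco : Nat.Coprime ϖ (r ^ i) := ((Nat.coprime_primes S.hϖ S.hr).mpr hne.symm).pow_right i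
    obtain ⟨w, hw⟩ := hco.dvd_of_dvd_mul_left hdvd
    have h2 := S.hϖ.two_le
    have h3 : 0 < r ^ j := pow_pos S.hr.pos j
    obtain ⟨w', rfl⟩ : ∃ w', w = w' + 1 := ⟨w - 1, by rcases w with - | w <;> simp_all⟩
    rw [mul_add, mul_one] at hw
    rw [show r ^ j = ϖ * w' + 1 by omega, Nat.mul_add_mod, Nat.one_mod_eq_one.mpr (by omega)]

theorem Sys.X_pow (a : A) : ∀ j : ℕ, ∃ k : K, k ≠ 0 ∧ S.X a ^ j = k • S.X (a ^ j) := by
  intro j
  induction j with
  | zero => exact ⟨1, one_ne_zero, by rw [pow_zero, pow_zero, S.one, one_smul]⟩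
  | succ j ih =>
    obtain ⟨k, hk, h⟩ := ih
    obtain ⟨k', hk', h'⟩ := S.mul (a ^ j) a
    exact ⟨k * k', mul_ne_zero hk hk', by
      rw [pow_succ, h, smul_mul_assoc, h', smul_smul, ← pow_succ]⟩

omit S [FiniteDimensional K V] in
theorem sum_roots {q : K} (hq : IsPrimitiveRoot q r) {i : ℕ} (h0 : i ≠ 0) (hi : i < r) :
    ∑ j ∈ Finset.range r, (q ^ i) ^ j = 0 := by
  have h1 : q ^ i ≠ 1 := hq.pow_ne_one_of_pos_of_lt h0 hi
  have h2 : (q ^ i) ^ r = 1 := by rw [← pow_mul, mul_comm, pow_mul, hq.pow_eq_one, one_pow]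
  have h3 := mul_geom_sum (q ^ i) r
  rw [h2, sub_self] at h3
  exact (mul_eq_zero.mp h3).resolve_left (sub_ne_zero.mpr h1)

omit S in
/-- A subspace invariant under `U`, `U ^ r = μ₀ ^ r`, is spanned by eigenvectors of `U`. -/
theorem finrank_le_sum_eig {U : Module.End K V} {μ₀ q : K} (hμ : μ₀ ≠ 0) (hr : 0 < r)
    (hq : IsPrimitiveRoot q r) (hU : U ^ r = μ₀ ^ r • 1) {P : Submodule K V}
    (hP : ∀ v ∈ P, U v ∈ P) :
    Module.finrank K P ≤ ∑ j : Fin r, Module.finrank K ↥(P ⊓ eigenspace U (μ₀ * q ^ (j : ℕ))) := by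
  classical
  have hq0 : q ≠ 0 := hq.ne_zero hr.ne'
  have hw : ∀ j : ℕ, μ₀ * q ^ j ≠ 0 := fun j => mul_ne_zero hμ (pow_ne_zero _ hq0)
  let T : ℕ → Module.End K V := fun j => (μ₀ * q ^ j)⁻¹ • U
  let Q : ℕ → Module.End K V := fun j => ∑ i ∈ Finset.range r, T j ^ i
  have hT : ∀ j, T j ^ r = 1 := fun j => by
    rw [smul_pow, hU, smul_smul, inv_pow, mul_pow, ← pow_mul, mul_comm j r, pow_mul, hq.pow_eq_one,
      one_pow, mul_one, inv_mul_cancel₀ (pow_ne_zero _ hμ), one_smul]
  have hQ : ∀ j v, v ∈ P → Q j v ∈ P ⊓ eigenspace U (μ₀ * q ^ j) := by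
    intro j v hv
    refine ⟨?_, ?_⟩
    · rw [SetLike.mem_coe, LinearMap.sum_apply]
      refine Submodule.sum_mem _ fun i hi => ?_
      clear hi
      induction i with
      | zero => simpa using hv
      | succ i ih =>
        rw [pow_succ', Module.End.mul_apply, LinearMap.smul_apply]
        exact P.smul_mem _ (hP _ ih)
    · rw [SetLike.mem_coe, mem_eigenspace_iff]
      have h1 : T j * Q j = Q j := by
        have h3 : (T j - 1) * Q j = 0 := by rw [mul_geom_sum, hT, sub_self]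
        rw [sub_mul, one_mul, sub_eq_zero] at h3
        exact h3
      have h2 := LinearMap.congr_fun h1 v
      rw [Module.End.mul_apply, LinearMap.smul_apply] at h2
      conv_rhs => rw [← h2]
      rw [smul_inv_smul₀ (hw j)]
  let F : P →ₗ[K] ((j : Fin r) → ↥(P ⊓ eigenspace U (μ₀ * q ^ (j : ℕ)))) :=
    LinearMap.pi fun j => (Q j).restrict (hQ j)
  have hF : Function.Injective F := by
    rw [injective_iff_map_eq_zero]
    rintro ⟨v, hv⟩ h0
    have h1 : ∀ j : Fin r, Q j v = 0 := fun j => congrArg Subtype.val (congrFun h0 j)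
    have h2 : ∑ j : Fin r, Q j v = (r : K) • v := by
      have : NeZero r := ⟨hr.ne'⟩
      simp only [Q, LinearMap.sum_apply]
      rw [Finset.sum_comm, Finset.sum_eq_single 0]
      · simp [Nat.cast_smul_eq_nsmul]
      · intro i hi hi0
        have h3 : ∀ j : Fin r, (T (j : ℕ) ^ i) v = ((q⁻¹) ^ i) ^ (j : ℕ) • (μ₀⁻¹ ^ i • (U ^ i) v) := by
          intro j
          rw [smul_pow, LinearMap.smul_apply, smul_smul]
          congr 1
          rw [mul_inv, mul_pow, ← inv_pow, ← pow_mul, ← pow_mul, mul_comm i, mul_comm]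
        rw [Finset.sum_congr rfl (fun j _ => h3 j), ← Finset.sum_smul,
          Fin.sum_univ_eq_sum_range (fun j => ((q⁻¹) ^ i) ^ j),
          sum_roots hq.inv hi0 (Finset.mem_range.mp hi), zero_smul]
      · intro h; exact absurd (Finset.mem_range.mpr hr) h
    rw [Finset.sum_eq_zero fun j _ => h1 j] at h2
    have : NeZero r := ⟨hr.ne'⟩
    exact Subtype.ext ((smul_eq_zero.mp h2.symm).resolve_left (NeZero.ne' (n := (r : K)) (h := hq.neZero')).symm)
  have := LinearMap.finrank_le_finrank_of_injective hF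
  rwa [Module.finrank_pi_fintype] at this

/-- The case of a transvection: `range δ` has order `r = ϖ`. -/
theorem Sys.transvection [IsAlgClosed K] (hrϖ : r = ϖ) (hI : Nat.card S.delta.range = r)
    (hc : ∀ y ∈ S.delta.ker, S.c y = 1) (t : K) :
    r * Module.finrank K (eigenspace S.g t) ≤ 2 * Module.finrank K V := by
  classical
  rcases Nat.eq_zero_or_pos (Module.finrank K (eigenspace S.g t)) with hd | hd
  · rw [hd]; simp
  have ht := S.ne_zero_of_eig hd
  have : Fact r.Prime := ⟨S.hr⟩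
  have hbot : S.delta.range ≠ ⊥ := fun h => by
    rw [h, Subgroup.card_bot] at hI; exact S.hr.one_lt.ne hI
  obtain ⟨u, hu, hu1⟩ := (Subgroup.bot_or_exists_ne_one _).resolve_left hbot
  obtain ⟨y, hy⟩ := id hu
  have hord : orderOf u = r := orderOf_eq_prime (S.expo u) hu1
  have hz : Subgroup.zpowers u = S.delta.range :=
    Subgroup.eq_of_le_of_card_ge (Subgroup.zpowers_le.mpr hu) (by rw [hI, Nat.card_zpowers, hord])
  have hpow : ∀ x ∈ S.delta.range, ∃ m : ℕ, x = u ^ m := fun x hx => by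
    obtain ⟨m, hm⟩ := mem_powers_iff_mem_zpowers.mpr (hz ▸ hx)
    exact ⟨m, hm.symm⟩
  -- `u` is fixed
  have huφ : S.φ u = u := by
    obtain ⟨m, hm⟩ := hpow (S.φ u) ⟨S.φ y, by rw [← hy, S.delta_apply, S.delta_apply, map_mul, map_inv]⟩
    have h1 : ∀ j : ℕ, (S.φ ^ j) u = u ^ (m ^ j) := by
      intro j
      induction j with
      | zero => simp
      | succ j ih => rw [pow_succ' S.φ, MulAut.mul_apply, ih, map_pow, hm, ← pow_mul, ← pow_succ']
    have h2 := h1 ϖ
    rw [S.phi_pow, MulAut.one_apply, ← hrϖ] at h2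
    nth_rewrite 1 [← pow_one u] at h2
    rw [pow_eq_pow_iff_modEq, hord, ← ZMod.natCast_eq_natCast_iff, Nat.cast_pow, ZMod.pow_card,
      Nat.cast_one] at h2
    rw [hm]
    nth_rewrite 2 [← pow_one u]
    rw [pow_eq_pow_iff_modEq, hord, ← ZMod.natCast_eq_natCast_iff, Nat.cast_one, ← h2]
  -- `u` and `y` do not commute
  have hq1 : S.e u y ≠ 1 := fun h => by
    obtain ⟨b, hb⟩ := S.nd u hu1
    obtain ⟨i, hi⟩ := hpow (S.delta b) ⟨b, rfl⟩
    have hk : (y ^ i)⁻¹ * b ∈ S.delta.ker := by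
      rw [MonoidHom.mem_ker, map_mul, map_inv, map_pow, hy, hi, inv_mul_cancel]
    apply hb
    have h1 := S.e_range_ker hu hk
    rw [S.e_mul, S.e_inv, S.e_pow, h, one_pow, inv_one, one_mul] at h1
    exact h1
  have hq := S.primitive hq1
  set q := S.e u y with hqdef
  set U := S.X u with hUdef
  have hgU : S.g * U = U * S.g := by
    rw [S.conj, huφ, hc u (S.mem_ker.mpr huφ), one_smul]
  obtain ⟨k, hk, hUr⟩ := S.X_pow u r
  rw [S.expo, S.one] at hUr
  obtain ⟨μ₀, hμ₀⟩ := IsAlgClosed.exists_pow_nat_eq k S.hr.pos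
  have hμ : μ₀ ≠ 0 := fun h => hk (by rw [← hμ₀, h, zero_pow S.hr.ne_zero])
  -- the shift
  obtain ⟨k', hk', hyu⟩ := S.mul y u
  have hφy : S.φ y = y * u := by rw [← hy, S.delta_apply, mul_inv_cancel_left]
  set β₀ := S.c y * k'⁻¹ with hβ₀
  have hgy : S.g * S.X y = β₀ • (S.X y * U * S.g) := by
    rw [S.conj, hφy, hyu, smul_mul_assoc, smul_smul, hβ₀, inv_mul_cancel_right₀ hk']
  have hβ : β₀ * μ₀ ≠ 0 := mul_ne_zero (mul_ne_zero (S.c_ne y) (inv_ne_zero hk')) hμ
  set q' := q⁻¹ with hq'def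
  have hq' : IsPrimitiveRoot q' r := hq.inv
  have hq'0 : q' ≠ 0 := hq'.ne_zero S.hr.ne_zero
  let E : K → ℕ → Submodule K V := fun s m => eigenspace S.g s ⊓ eigenspace U (μ₀ * q' ^ m)
  have hstep : ∀ s m, Module.finrank K (E s (m + 1)) ≤
      Module.finrank K (E (β₀ * μ₀ * q' ^ (m + 1) * s) m) := by
    intro s m
    refine finrank_le_of_mapsTo (S.X_inj y) ?_
    rintro v ⟨hv, hv'⟩
    rw [SetLike.mem_coe, mem_eigenspace_iff] at hv hv'
    refine ⟨?_, ?_⟩
    · rw [SetLike.mem_coe, mem_eigenspace_iff]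
      have h := LinearMap.congr_fun hgy v
      simp only [Module.End.mul_apply, LinearMap.smul_apply, hv, map_smul, hv', smul_smul] at h
      rw [h]
      congr 1
      ring
    · rw [SetLike.mem_coe]
      have h := map_eig (S.comm u y) (mem_eigenspace_iff.mpr hv')
      rw [← hqdef] at h
      have e : μ₀ * q' ^ m = q * (μ₀ * q' ^ (m + 1)) := by
        rw [hq'def, pow_succ', mul_left_comm q, mul_inv_cancel_left₀ (hq.ne_zero S.hr.ne_zero)]
      rw [e]
      exact h
  let f : ℕ → K := fun m => Nat.rec 1 (fun i x => β₀ * μ₀ * q' ^ (i + 1) * x) m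
  have hf0 : f 0 = 1 := rfl
  have hfs : ∀ i, f (i + 1) = β₀ * μ₀ * q' ^ (i + 1) * f i := fun i => rfl
  have hiter : ∀ m s, Module.finrank K (E s m) ≤ Module.finrank K (E (f m * s) 0) := by
    intro m
    induction m with
    | zero => intro s; rw [hf0, one_mul]
    | succ m ih =>
      intro s
      refine (hstep s m).trans ((ih _).trans (le_of_eq ?_))
      rw [hfs, show f m * (β₀ * μ₀ * q' ^ (m + 1) * s) = β₀ * μ₀ * q' ^ (m + 1) * f m * s by ring]
  have hsq : ∀ m, f m ^ 2 = (β₀ * μ₀) ^ (2 * m) * q' ^ (m * (m + 1)) := by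
    intro m
    induction m with
    | zero => simp [hf0]
    | succ m ih =>
      rw [hfs, mul_pow, ih]
      ring
  have htriple : ∀ i j l : ℕ, i < j → j < l → l < r → f i = f j → f j = f l → False := by
    intro i j l hij hjl hlr h1 h2
    obtain ⟨a, ha, rfl⟩ : ∃ a, 0 < a ∧ j = i + a := ⟨j - i, by omega, by omega⟩
    obtain ⟨b, hb, rfl⟩ : ∃ b, 0 < b ∧ l = i + a + b := ⟨l - (i + a), by omega, by omega⟩
    set B := β₀ * μ₀
    have e : ∀ i a : ℕ, f i = f (i + a) → B ^ (2 * a) * q' ^ (a * (2 * i + a + 1)) = 1 := by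
      intro i a h
      have h' := congrArg (· ^ 2) h
      simp only [hsq] at h'
      rw [show 2 * (i + a) = 2 * i + 2 * a by ring,
        show (i + a) * (i + a + 1) = i * (i + 1) + a * (2 * i + a + 1) by ring, pow_add, pow_add,
        mul_mul_mul_comm] at h'
      exact (mul_eq_left₀ (mul_ne_zero (pow_ne_zero _ hβ) (pow_ne_zero _ hq'0))).mp h'.symm
    have e1 := congrArg (· ^ b) (e i a h1)
    have e2 := congrArg (· ^ a) (e (i + a) b h2)
    simp only [one_pow, mul_pow, ← pow_mul] at e1 e2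
    rw [show 2 * b * a = 2 * a * b by ring,
      show b * (2 * (i + a) + b + 1) * a = a * (2 * i + a + 1) * b + a * b * (a + b) by ring, pow_add,
      ← mul_assoc, e1, one_mul, hq'.pow_eq_one_iff_dvd] at e2
    have hr' := S.hr
    rcases hr'.dvd_mul.mp e2 with h3 | h3
    · rcases hr'.dvd_mul.mp h3 with h4 | h4 <;> have := Nat.le_of_dvd (by omega) h4 <;> omega
    · have := Nat.le_of_dvd (by omega) h3; omega
  -- assemble
  have hWU : ∀ v ∈ eigenspace S.g t, U v ∈ eigenspace S.g t := fun v hv => by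
    have := map_eig (T := S.g) (M := U) (q := 1) (by rw [one_smul, hgU]) hv
    rwa [one_mul] at this
  have hd1 := finrank_le_sum_eig hμ S.hr.pos hq' (by rw [hUr, hμ₀]) hWU
  have hle : ∑ m : Fin r, Module.finrank K (E t (m : ℕ)) ≤ ∑ m : Fin r, Module.finrank K (E (f m * t) 0) :=
    Finset.sum_le_sum fun m _ => hiter _ _
  have hfib : ∀ x : K, (Finset.univ.filter fun m : Fin r => f m * t = x).card ≤ 2 := by
    intro x
    by_contra h
    obtain ⟨a, ha, b, hb, c, hc', hab, hac, hbc⟩ := Finset.two_lt_card.mp (Nat.lt_of_not_le h)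
    simp only [Finset.mem_filter, Finset.mem_univ, true_and] at ha hb hc'
    have hab' : f a = f b := mul_right_cancel₀ ht (ha.trans hb.symm)
    have hbc' : f b = f c := mul_right_cancel₀ ht (hb.trans hc'.symm)
    rw [Ne, Fin.ext_iff] at hab hac hbc
    rcases lt_or_gt_of_ne hab with h1 | h1 <;> rcases lt_or_gt_of_ne hac with h2 | h2 <;>
      rcases lt_or_gt_of_ne hbc with h3 | h3
    all_goals first
      | omega
      | exact htriple _ _ _ h1 h3 c.2 hab' hbc'
      | exact htriple _ _ _ h2 h3 b.2 (hab'.trans hbc') hbc'.symm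
      | exact htriple _ _ _ h2 h1 b.2 (hab'.trans hbc').symm hab'
      | exact htriple _ _ _ h1 h2 c.2 hab'.symm (hab'.trans hbc')
      | exact htriple _ _ _ h3 h2 a.2 hbc' (hab'.trans hbc').symm
      | exact htriple _ _ _ h3 h1 a.2 hbc'.symm hab'.symm
  have hind : iSupIndep fun s : K => E s 0 :=
    (Module.End.eigenspaces_iSupIndep S.g).mono fun s => inf_le_left
  have hsum : ∑ m : Fin r, Module.finrank K (E (f m * t) 0) ≤ 2 * Module.finrank K (eigenspace U μ₀) := by
    rw [Finset.sum_comp (fun s => Module.finrank K (E s 0)) (fun m : Fin r => f m * t)]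
    calc ∑ x ∈ Finset.univ.image (fun m : Fin r => f m * t),
          (Finset.univ.filter fun m : Fin r => f m * t = x).card • Module.finrank K (E x 0)
        ≤ ∑ x ∈ Finset.univ.image (fun m : Fin r => f m * t), 2 * Module.finrank K (E x 0) :=
          Finset.sum_le_sum fun x _ => by rw [smul_eq_mul]; exact Nat.mul_le_mul_right _ (hfib x)
      _ ≤ _ := by
          rw [← Finset.mul_sum]
          refine Nat.mul_le_mul_left _ ?_
          have hsup : ∀ s : Finset K, ∑ x ∈ s, Module.finrank K (E x 0) ≤ Module.finrank K (eigenspace U μ₀) := by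
            intro s
            have hmap : ∀ x, E x 0 ≤ eigenspace U μ₀ := fun x =>
              inf_le_right.trans (by rw [pow_zero, mul_one])
            have hs : ∑ x ∈ s, Module.finrank K (E x 0) = Module.finrank K (s.sup fun x => E x 0 : Submodule K V) := by
              induction s using Finset.induction with
              | empty => rw [Finset.sum_empty, Finset.sup_empty, finrank_bot]
              | insert a s ha ih =>
                have hd := (hind.supIndep' (insert a s)) (Finset.subset_insert a s) (Finset.mem_insert_self a s) ha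
                have h1 := Submodule.finrank_sup_add_finrank_inf_eq (E a 0) (s.sup fun x => E x 0)
                rw [hd.eq_bot, finrank_bot, add_zero] at h1
                rw [Finset.sum_insert ha, ih, Finset.sup_insert, h1]
            rw [hs]
            exact Submodule.finrank_mono (Finset.sup_le fun x _ => hmap x)
          exact hsup _
  have h5 := S.eig_X_le hu1 μ₀
  calc r * Module.finrank K (eigenspace S.g t)
      ≤ r * (2 * Module.finrank K (eigenspace U μ₀)) := Nat.mul_le_mul_left _ (hd1.trans (hle.trans hsum))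
    _ ≤ 2 * Module.finrank K V := by rw [mul_left_comm]; exact Nat.mul_le_mul_left _ h5

end CfsgLib.ExtraEigen
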