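import Mathlib
import Cfsg.Agent.Lib.ExtraEigen.Range

/-!
The eigenspace bounds, by prime order of the normalizing endomorphism (helper62).
-/

set_option autoImplicit false

namespace CfsgLib.ExtraEigen

open Module.End (eigenspace mem_eigenspace_iff)

variable {K : Type*} [Field K] {V : Type*} [AddCommGroup V] [Module K V] [FiniteDimensional K V]

omit [FiniteDimensional K V] in
theorem sq_sum_anticomm {ι : Type*} (s : Finset ι) (M : ι → Module.End K V)
    (hac : ∀ a ∈ s, ∀ b ∈ s, a ≠ b → M a * M b + M b * M a = 0)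
    (hsq : ∀ a ∈ s, ∃ k : K, M a * M a = k • 1) :
    ∃ k : K, (∑ a ∈ s, M a) * (∑ a ∈ s, M a) = k • 1 := by
  classical
  induction s using Finset.induction with
  | empty => exact ⟨0, by simp⟩
  | insert a s ha ih =>
    obtain ⟨k, hk⟩ := hsq a (Finset.mem_insert_self a s)
    obtain ⟨k', hk'⟩ := ih (fun x hx y hy => hac x (Finset.mem_insert_of_mem hx) y (Finset.mem_insert_of_mem hy))
      (fun x hx => hsq x (Finset.mem_insert_of_mem hx))
    refine ⟨k + k', ?_⟩
    have h0 : M a * (∑ b ∈ s, M b) + (∑ b ∈ s, M b) * M a = 0 := by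
      rw [Finset.mul_sum, Finset.sum_mul, ← Finset.sum_add_distrib]
      exact Finset.sum_eq_zero fun b hb => hac a (Finset.mem_insert_self a s) b (Finset.mem_insert_of_mem hb)
        (fun h => ha (h ▸ hb))
    rw [Finset.sum_insert ha, add_smul, ← hk, ← hk']
    calc (M a + ∑ b ∈ s, M b) * (M a + ∑ b ∈ s, M b)
        = M a * M a + (M a * (∑ b ∈ s, M b) + (∑ b ∈ s, M b) * M a) + (∑ b ∈ s, M b) * (∑ b ∈ s, M b) := by
          noncomm_ring
      _ = _ := by rw [h0, add_zero]

omit [FiniteDimensional K V] in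
theorem small_pow {r j : ℕ} (hr : 2 ≤ r) (hj : 2 ≤ j) (h : r ^ j < 16) :
    r ^ j = 4 ∨ r ^ j = 8 ∨ r ^ j = 9 := by
  have h2 : r ^ 2 ≤ r ^ j := Nat.pow_le_pow_right (by omega) hj
  have hr3 : r < 4 := by nlinarith
  have hj4 : j < 4 := by
    by_contra h'
    have : 2 ^ 4 ≤ r ^ j :=
      le_trans (Nat.pow_le_pow_right (by omega) (by omega)) (Nat.pow_le_pow_left hr j)
    omega
  interval_cases r <;> interval_cases j <;> omega

variable {A : Type*} [CommGroup A] [Fintype A] {r ϖ : ℕ} (S : Sys K V A r ϖ)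

set_option linter.unusedSectionVars false
include S

theorem Sys.finrank_cent_sq' (t : K) :
    Module.finrank K (eigenspace S.g t) ^ 2 ≤ Module.finrank K (cent S.g) := by
  rw [eigenspace_eq_ker]
  exact finrank_cent_sq S.g t

theorem Sys.bound_two_case (t : K) :
    4 * Module.finrank K (eigenspace S.g t) ≤ 3 * Module.finrank K V := by
  by_contra hlt
  obtain ⟨hφ, -⟩ := S.of_large (t := t) (by omega)
  obtain ⟨y, hy⟩ : ∃ y, S.φ y ≠ y := by
    by_contra h
    push Not at h
    exact hφ (MulEquiv.ext h)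
  have hb := S.bound_moved hy t
  have h1 := Nat.mul_le_mul_left 2 hb
  have hr2 : 2 * Module.finrank K V ≤ r * Module.finrank K V := Nat.mul_le_mul_right _ S.hr.two_le
  have h2 : r * (4 * Module.finrank K (Module.End.eigenspace S.g t)) ≤ r * (3 * Module.finrank K V) := by linarith
  exact hlt (Nat.le_of_mul_le_mul_left h2 S.hr.pos)

theorem Sys.bound_three_case (h3 : ϖ = 3) (t : K) :
    3 * Module.finrank K (eigenspace S.g t) ≤ 2 * Module.finrank K V := by
  by_contra hlt
  obtain ⟨hφ, -⟩ := S.of_large (t := t) (by omega)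
  rcases S.hr.two_le.eq_or_lt with hr2 | hr2
  · obtain ⟨y₁, y₂, he⟩ := S.range_form (by omega) hφ
    exact hlt (S.bound_two he t)
  · obtain ⟨y, hy⟩ : ∃ y, S.φ y ≠ y := by
      by_contra h
      push Not at h
      exact hφ (MulEquiv.ext h)
    have hb := S.bound_moved hy t
    have hr3 : 3 * Module.finrank K V ≤ r * Module.finrank K V := Nat.mul_le_mul_right _ (by omega)
    have h2 : r * (6 * Module.finrank K (Module.End.eigenspace S.g t)) ≤ r * (4 * Module.finrank K V) := by
      linarith
    have := Nat.le_of_mul_le_mul_left h2 S.hr.pos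
    omega

theorem Sys.bound_large_case [IsAlgClosed K] (h5 : 3 < ϖ) (t : K) :
    2 * Module.finrank K (eigenspace S.g t) ≤ Module.finrank K V := by
  by_contra hlt
  obtain ⟨hφ, hc⟩ := S.of_large (t := t) (by omega)
  have h5' : 5 ≤ ϖ := by
    rcases Nat.lt_or_ge ϖ 5 with h | h
    · have hw4 : ϖ = 4 := by omega
      exact absurd (hw4 ▸ S.hϖ : Nat.Prime 4) (by decide)
    · exact h
  have hc1 := S.cent_bound hφ
  have hd := S.finrank_cent_sq' t
  set I := Nat.card S.delta.range
  set n := Module.finrank K V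
  set d := Module.finrank K (eigenspace S.g t)
  set D := Module.finrank K (cent S.g)
  have hI1 : 1 < I := S.one_lt_card_range hφ
  -- `ϖ I < 4 (I + ϖ - 1)`
  have key : ϖ * I < 4 * (I + (ϖ - 1)) := by
    by_contra hk
    have h1 : (n + 1) ^ 2 ≤ (2 * d) ^ 2 := Nat.pow_le_pow_left (by omega) 2
    have h2 : (ϖ * I) * n ^ 2 < (ϖ * I) * (4 * D) := by
      refine Nat.mul_lt_mul_of_pos_left ?_ (Nat.mul_pos (by omega) (by omega))
      nlinarith
    have h3 : (ϖ * I) * (4 * D) ≤ 4 * (n ^ 2 * (I + (ϖ - 1))) := by nlinarith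
    have h4 : 4 * (n ^ 2 * (I + (ϖ - 1))) ≤ (ϖ * I) * n ^ 2 := by
      rw [mul_left_comm, mul_comm (ϖ * I)]
      exact Nat.mul_le_mul_left _ (by omega)
    omega
  have hbound : I < 16 := by
    by_contra h
    obtain ⟨I', hI'⟩ : ∃ I', I = I' + 16 := ⟨I - 16, by omega⟩
    obtain ⟨w', hw'⟩ : ∃ w', ϖ = w' + 5 := ⟨ϖ - 5, by omega⟩
    rw [hI', hw', show w' + 5 - 1 = w' + 4 by omega] at key
    nlinarith
  by_cases hrϖ : r = ϖ
  · obtain ⟨j, hj⟩ := S.card_range_pow
    rcases j with - | - | j
    · rw [show I = r ^ 0 from hj, pow_zero] at hI1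
      omega
    · have h := S.transvection hrϖ (by rw [hj, pow_one]) hc t
      have h' := le_trans (Nat.mul_le_mul_right d (show 5 ≤ r by omega)) h
      omega
    · have : r ^ 2 ≤ r ^ (j + 1 + 1) := Nat.pow_le_pow_right S.hr.pos (by omega)
      rw [← hj] at this
      nlinarith
  · obtain ⟨j, hj2, hj, hmod⟩ := S.card_range_facts hrϖ hφ
    have hj' : I = r ^ j := hj
    rw [← hj'] at hmod
    have h2 : r ^ 2 ≤ I := hj' ▸ Nat.pow_le_pow_right S.hr.pos hj2
    have hr3 : r < 4 := by nlinarith
    have hI : ϖ + 1 ≤ I := by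
      by_contra h
      rcases Nat.lt_or_ge I ϖ with h' | h'
      · rw [Nat.mod_eq_of_lt h'] at hmod; omega
      · rw [show I = ϖ by omega, Nat.mod_self] at hmod; omega
    rcases Nat.lt_or_ge ϖ 7 with hw | hw
    · have hw5 : ϖ = 5 := by
        rcases Nat.lt_or_ge ϖ 6 with h | h
        · omega
        · have hw6 : ϖ = 6 := by omega
          exact absurd (hw6 ▸ S.hϖ : Nat.Prime 6) (by decide)
      have h4 := small_pow S.hr.two_le hj2 (hj' ▸ hbound)
      rw [← hj'] at h4
      have hmod5 : I % 5 = 1 := by simpa only [hw5] using hmod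
      omega
    · obtain ⟨I', hI'⟩ : ∃ I', I = I' + 8 := ⟨I - 8, by omega⟩
      obtain ⟨w', hw'⟩ : ∃ w', ϖ = w' + 7 := ⟨ϖ - 7, by omega⟩
      rw [hI', hw', show w' + 7 - 1 = w' + 6 by omega] at key
      nlinarith

/-- For `|range δ| = 4` the endomorphism has quadratic minimal polynomial. -/
theorem Sys.quadratic (hr2 : r = 2) (hne : r ≠ ϖ) (hI : Nat.card S.delta.range = 4)
    (hc : ∀ y ∈ S.delta.ker, S.c y = 1) {t : K} (hd : 0 < Module.finrank K (eigenspace S.g t)) :
    ∃ s : K, (S.g - s • 1) * (S.g - t • 1) = 0 := by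
  classical
  let B : Module.Basis A K (Module.End K V) := .mk S.linearIndependent S.span.ge
  have hB : ∀ a, B a = S.X a := fun a => Module.Basis.mk_apply _ _ a
  set f := B.repr S.g with hf
  have hg : S.g = ∑ a, f a • S.X a := by
    conv_lhs => rw [← B.sum_repr S.g]
    simp only [hB, hf]
  have hcomp := Subgroup.isComplement'_of_card_mul_and_disjoint S.card_range_mul_card_ker
    (S.disjoint_range_ker hne)
  -- the support lies in the range
  have hsupp : ∀ a, a ∉ S.delta.range → f a = 0 := by
    intro a ha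
    obtain ⟨b, hb, he⟩ : ∃ b ∈ S.delta.ker, S.e a b ≠ 1 := by
      by_contra h
      push Not at h
      have ha' : a ∈ S.delta.range ⊔ S.delta.ker := by rw [hcomp.sup_eq_top]; trivial
      obtain ⟨i, hi, cc, hcc, rfl⟩ := Subgroup.mem_sup.mp ha'
      apply ha
      suffices hcc1 : cc = 1 by rw [hcc1, mul_one]; exact hi
      by_contra hne1
      obtain ⟨z, hz⟩ := S.nd cc hne1
      have hz' : z ∈ S.delta.range ⊔ S.delta.ker := by rw [hcomp.sup_eq_top]; trivial
      obtain ⟨i', hi', c', hc', rfl⟩ := Subgroup.mem_sup.mp hz'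
      apply hz
      have h1 := h c' hc'
      rw [S.e_mul_left, S.e_range_ker hi hc', one_mul] at h1
      have h2 := S.e_swap cc i'
      rw [S.e_range_ker hi' hcc, mul_one] at h2
      rw [S.e_mul, h1, h2, mul_one]
    have hgb : S.g * S.X b = S.X b * S.g := by
      rw [S.conj, hc b hb, one_smul, S.mem_ker.mp hb]
    obtain ⟨u, hu⟩ := S.isUnit_X b
    have h1 : ∑ x, (f x * (S.e x b - 1)) • (S.X b * S.X x) = 0 := by
      rw [hg, Finset.sum_mul, Finset.mul_sum] at hgb
      simp only [smul_mul_assoc, mul_smul_comm, S.comm _ b, smul_smul] at hgb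
      simp only [mul_sub, mul_one, sub_smul, Finset.sum_sub_distrib, hgb, sub_self]
    have h2 : ∑ x, (f x * (S.e x b - 1)) • S.X x = 0 := by
      have h3 := congrArg (fun N => (↑u⁻¹ : Module.End K V) * N) h1
      simpa only [mul_zero, Finset.mul_sum, mul_smul_comm, ← hu, Units.inv_mul_cancel_left] using h3
    have h3 := Fintype.linearIndependent_iff.mp S.linearIndependent _ h2 a
    exact (mul_eq_zero.mp h3).resolve_right (sub_ne_zero.mpr he)
  set s₀ := Finset.univ.filter fun a => a ∈ S.delta.range with hs₀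
  have hs₀card : s₀.card = 4 := by
    rw [hs₀, ← Fintype.card_subtype, ← Nat.card_eq_fintype_card]
    exact hI
  set s := s₀.erase 1
  set M := ∑ a ∈ s, f a • S.X a
  have hgM : S.g = f 1 • 1 + M := by
    rw [hg, ← Finset.sum_subset (Finset.subset_univ s₀) (fun a _ ha => by
      rw [hsupp a (fun h => ha (Finset.mem_filter.mpr ⟨Finset.mem_univ a, h⟩)), zero_smul]),
      ← Finset.add_sum_erase _ _ (Finset.mem_filter.mpr ⟨Finset.mem_univ 1, one_mem _⟩ : (1 : A) ∈ s₀), S.one]
  have hmem : ∀ a ∈ s, a ≠ 1 ∧ a ∈ S.delta.range := fun a ha =>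
    ⟨Finset.ne_of_mem_erase ha, (Finset.mem_filter.mp (Finset.mem_of_mem_erase ha)).2⟩
  have hanti : ∀ a ∈ s, ∀ b ∈ s, a ≠ b → S.e a b = -1 := by
    intro a ha b hb hab
    obtain ⟨ha1, haI⟩ := hmem a ha
    obtain ⟨hb1, hbI⟩ := hmem b hb
    have hne1 : S.e a b ≠ 1 := by
      intro he
      obtain ⟨z, hzI, hz⟩ := S.nd_range hne haI ha1
      have hz1 : z ≠ 1 := fun h => hz (by rw [h, S.e_one])
      have hza : z ≠ a := fun h => hz (by rw [h, S.e_self])
      have hzb : z ≠ b := fun h => hz (by rw [h, he])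
      have hzab : z ≠ a * b := fun h => hz (by rw [h, S.e_mul, S.e_self, he, one_mul])
      have hinv : ∀ x : A, x⁻¹ = x := fun x => by
        rw [inv_eq_iff_mul_eq_one, ← sq, ← hr2, S.expo]
      have hab1 : a * b ≠ 1 := fun h => hab (by rw [eq_inv_of_mul_eq_one_left h, hinv])
      have h5 : ({1, a, b, a * b, z} : Finset A).card = 5 := by
        rw [Finset.card_insert_of_notMem, Finset.card_insert_of_notMem, Finset.card_insert_of_notMem,
          Finset.card_pair hzab.symm]
        · simp only [Finset.mem_insert, Finset.mem_singleton, not_or]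
          exact ⟨fun h => ha1 (mul_eq_right.mp h.symm), hzb.symm⟩
        · simp only [Finset.mem_insert, Finset.mem_singleton, not_or]
          exact ⟨hab, fun h => hb1 (mul_eq_left.mp h.symm), hza.symm⟩
        · simp only [Finset.mem_insert, Finset.mem_singleton, not_or]
          exact ⟨ha1.symm, hb1.symm, hab1.symm, hz1.symm⟩
      have hsub : ({1, a, b, a * b, z} : Finset A) ⊆ s₀ := by
        intro x hx
        simp only [Finset.mem_insert, Finset.mem_singleton] at hx
        refine Finset.mem_filter.mpr ⟨Finset.mem_univ x, ?_⟩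
        rcases hx with rfl | rfl | rfl | rfl | rfl
        · exact one_mem _
        · exact haI
        · exact hbI
        · exact mul_mem haI hbI
        · exact hzI
      have := Finset.card_le_card hsub
      omega
    have hp : IsPrimitiveRoot (S.e a b) 2 := hr2 ▸ S.primitive hne1
    exact hp.eq_neg_one_of_two_right
  obtain ⟨β, hβ⟩ := sq_sum_anticomm s (fun a => f a • S.X a)
    (fun a ha b hb hab => by
      rw [smul_mul_smul_comm, smul_mul_smul_comm, S.comm a b, hanti a ha b hb hab, mul_comm (f b), neg_smul,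
        one_smul, smul_neg, neg_add_cancel])
    (fun a ha => by
      obtain ⟨k, -, hk⟩ := S.mul a a
      refine ⟨f a * f a * k, ?_⟩
      rw [smul_mul_smul_comm, hk, smul_smul, ← sq a, ← hr2, S.expo, S.one])
  obtain ⟨v, hv, hv0⟩ := Submodule.exists_mem_ne_zero_of_ne_bot
    (p := eigenspace S.g t) fun h0 => by rw [h0, finrank_bot] at hd; omega
  rw [mem_eigenspace_iff] at hv
  have hM : M = S.g - f 1 • 1 := by rw [hgM]; abel
  have hMv : M v = (t - f 1) • v := by
    rw [hM, LinearMap.sub_apply, hv, LinearMap.smul_apply, Module.End.one_apply, sub_smul]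
  have hβt : (t - f 1) * (t - f 1) = β := by
    have h := LinearMap.congr_fun hβ v
    rw [Module.End.mul_apply] at h
    change M (M v) = _ at h
    rw [hMv, map_smul, hMv, smul_smul, LinearMap.smul_apply, Module.End.one_apply] at h
    exact smul_left_injective K hv0 h
  refine ⟨2 * f 1 - t, ?_⟩
  have h : (S.g - (2 * f 1 - t) • 1) * (S.g - t • 1) = M * M - β • 1 := by
    rw [hM, ← hβt]
    simp only [sub_mul, mul_sub, smul_mul_assoc, mul_smul_comm, one_mul, mul_one, smul_smul, smul_sub]
    module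
  rw [h]
  exact sub_eq_zero.mpr hβ

theorem Sys.bound_three_coprime [IsAlgClosed K] (h3 : ϖ = 3) (hn : ¬ 3 ∣ Module.finrank K V) (t : K) :
    2 * Module.finrank K (eigenspace S.g t) ≤ Module.finrank K V := by
  by_contra hlt
  obtain ⟨hφ, hc⟩ := S.of_large (t := t) (by omega)
  have hne : r ≠ ϖ := by
    intro h
    apply hn
    have : Fact r.Prime := ⟨S.hr⟩
    have : Nontrivial A := by
      by_contra hA
      rw [not_nontrivial_iff_subsingleton] at hA
      exact hφ (MulEquiv.ext fun a => Subsingleton.elim _ _)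
    obtain ⟨k, hk, hk'⟩ := (S.pGroup.nontrivial_iff_card).mp ‹_›
    rw [S.card_eq] at hk'
    have hdvd : r ∣ Module.finrank K V ^ 2 := hk' ▸ dvd_pow_self r (by omega)
    have := S.hr.dvd_of_dvd_pow hdvd
    rwa [h, h3] at this
  obtain ⟨j, hj2, hj, hmod⟩ := S.card_range_facts hne hφ
  rw [← hj] at hmod
  have hmod3 : Nat.card S.delta.range % 3 = 1 := by simpa only [h3] using hmod
  clear hmod
  have hd : 0 < Module.finrank K (eigenspace S.g t) := by omega
  have hc0 := S.cent_bound hφ
  have hc1 : 3 * Nat.card S.delta.range * Module.finrank K (cent S.g) ≤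
      Module.finrank K V ^ 2 * (Nat.card S.delta.range + (3 - 1)) := by simpa only [h3] using hc0
  clear hc0
  set I := Nat.card S.delta.range with hI
  set n := Module.finrank K V with hn'
  set D := Module.finrank K (cent S.g) with hD
  by_cases hI4 : I = 4
  · have hr2 : r = 2 := by
      have := S.hr.two_le
      have h2 : r ^ 2 ≤ 4 := by rw [← hI4, hj]; exact Nat.pow_le_pow_right S.hr.pos hj2
      nlinarith
    obtain ⟨s, hs⟩ := S.quadratic hr2 hne hI4 hc hd
    have h := finrank_cent_two S.g t s hs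
    rw [← eigenspace_eq_ker] at h
    set d := Module.finrank K (eigenspace S.g t) with hd'
    have hdn : d ≤ n := Submodule.finrank_le _
    obtain ⟨m, hm⟩ : ∃ m, n = d + m := ⟨n - d, by omega⟩
    rw [← hn', hm, Nat.add_sub_cancel_left, ← hD] at h
    rw [hI4, hm] at hc1
    norm_num at hc1
    have h2 : m < d := by omega
    nlinarith
  · have hI16 : 16 ≤ I := by
      by_contra h
      have h4 := small_pow S.hr.two_le hj2 (by omega)
      omega
    have hge := finrank_cent_ge S.g t
    rw [← eigenspace_eq_ker] at hge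
    -- a root of `x² + t x + t²`
    obtain ⟨c₁, hc₁⟩ : ∃ c₁ : K, c₁ ^ 2 + t * c₁ + t ^ 2 = 0 := by
      obtain ⟨c₁, hc₁⟩ := IsAlgClosed.exists_root
        (Polynomial.C 1 * Polynomial.X ^ 2 + Polynomial.C t * Polynomial.X + Polynomial.C (t ^ 2))
        (by rw [Polynomial.degree_quadratic one_ne_zero]; decide)
      exact ⟨c₁, by simpa [Polynomial.IsRoot] using hc₁⟩
    set T := onRange S.g t with hT
    have hquad : (T - (-t - c₁) • 1) * (T - c₁ • 1) = 0 := by
      apply LinearMap.ext
      rintro ⟨v, w, rfl⟩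
      apply Subtype.ext
      have hcube : S.g * (S.g * S.g) = (t * (t * t)) • (1 : Module.End K V) := by
        have ht3 := S.pow_eq_one_of_eig hd
        rw [h3] at ht3
        have : S.g ^ 3 = 1 := by simpa only [h3] using S.gpow
        rw [show t * (t * t) = t ^ 3 by ring, ht3, one_smul, ← this, pow_succ', sq]
      have h := LinearMap.congr_fun hcube w
      simp only [Module.End.mul_apply, LinearMap.smul_apply, Module.End.one_apply] at h
      have hprod : c₁ * (-t - c₁) = t * t := by linear_combination -hc₁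
      simp only [hT, Module.End.mul_apply, LinearMap.sub_apply, LinearMap.smul_apply, Module.End.one_apply,
        LinearMap.zero_apply, coe_onRange, Submodule.coe_sub, Submodule.coe_smul, ZeroMemClass.coe_zero,
        map_sub, map_smul, smul_sub, smul_smul, h]
      rw [hprod]
      module
    have h2 := finrank_cent_two T c₁ (-t - c₁) hquad
    have hrange := LinearMap.finrank_range_add_finrank_ker (S.g - t • 1)
    rw [← eigenspace_eq_ker] at hrange
    have hd1 : Module.finrank K (LinearMap.ker (T - c₁ • 1)) ≤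
        Module.finrank K (LinearMap.range (S.g - t • 1)) := Submodule.finrank_le _
    set d := Module.finrank K (eigenspace S.g t)
    set m := Module.finrank K (LinearMap.range (S.g - t • 1))
    set p := Module.finrank K (LinearMap.ker (T - c₁ • 1))
    obtain ⟨q, hq⟩ : ∃ q, m = p + q := ⟨m - p, by omega⟩
    rw [hq, Nat.add_sub_cancel_left] at h2
    rw [← hn'] at hrange
    rw [← hD] at hge
    have e1 : 8 * D ≤ 3 * n ^ 2 := by
      obtain ⟨I', hI'⟩ : ∃ I', I = I' + 16 := ⟨I - 16, by omega⟩
      rw [hI'] at hc1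
      norm_num at hc1
      nlinarith
    have e2 : 4 * m ^ 2 ≤ 8 * (p ^ 2 + q ^ 2) := by rw [hq]; nlinarith [sq_nonneg ((p : ℤ) - q)]
    obtain ⟨x, hx⟩ : ∃ x, d = m + 1 + x := ⟨d - m - 1, by omega⟩
    rw [hx] at hrange hge
    nlinarith

end CfsgLib.ExtraEigen
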